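import Mathlib.RingTheory.Etale.Kaehler
import Mathlib.RingTheory.Unramified.Field
import Mathlib.RingTheory.Unramified.Finite
import Mathlib.RingTheory.Smooth.Basic
import Mathlib.RingTheory.Artinian.Ring
import Mathlib.RingTheory.LocalProperties.Reduced
import Mathlib.FieldTheory.Perfect
import Mathlib.RingTheory.Jacobson.Ring
import Mathlib.LinearAlgebra.Basis.SMul
import Mathlib.LinearAlgebra.TensorProduct.Basis

/-!
# Coordinates vanishing at a closed point: algebra

`k` a perfect field, `B` a `k`-algebra of finite type, `t i ∈ B` with `d(t i)` a basis of `Ω[B⁄k]`, `M` a maximal ideal.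
There are `x i ∈ M` with `d(x i) = u i • d(t i)` and `f ∉ M` a multiple of the `u i` with `f M ⊆ (x)`.
-/

set_option autoImplicit false
universe u

namespace K434.FrameAlg

open KaehlerDifferential Polynomial

variable (k : Type u) [Field k] [PerfectField k] {B : Type u} [CommRing B] [Algebra k B] [Algebra.FiniteType k B]
  {m : ℕ}

theorem exists_x (t : Fin m → B) (M : Ideal B) [hM : M.IsMaximal] :
    ∃ (x u : Fin m → B), (∀ i, x i ∈ M) ∧ (∀ i, D k B (x i) = u i • D k B (t i)) ∧
      (∀ i, ∃ a b : B, a * x i + b * u i = 1) := by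
  let _ : Field (B ⧸ M) := Ideal.Quotient.field M
  have hfin : Module.Finite k (B ⧸ M) := finite_of_finite_type_of_isJacobsonRing k (B ⧸ M)
  have hint : ∀ y : B ⧸ M, IsIntegral k y := fun y => Algebra.IsIntegral.isIntegral y
  have hsep : ∀ y : B ⧸ M, (minpoly k y).Separable := fun y =>
    PerfectField.separable_of_irreducible (minpoly.irreducible (hint y))
  choose a b hab using fun i => hsep (Ideal.Quotient.mk M (t i))
  refine ⟨fun i => aeval (t i) (minpoly k (Ideal.Quotient.mk M (t i))),
    fun i => aeval (t i) (derivative (minpoly k (Ideal.Quotient.mk M (t i)))), fun i => ?_, fun i => ?_, fun i => ?_⟩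
  · rw [← Ideal.Quotient.eq_zero_iff_mem]
    change (Ideal.Quotient.mkₐ k M) (aeval (t i) _) = 0
    rw [← Polynomial.aeval_algHom_apply]
    exact minpoly.aeval k _
  · exact Derivation.map_aeval _ _ _
  · refine ⟨aeval (t i) (a i), aeval (t i) (b i), ?_⟩
    rw [← map_mul, ← map_mul, ← map_add, hab, map_one]

omit [PerfectField k] in
theorem exists_mul_mem (t x u : Fin m → B) (b : Module.Basis (Fin m) B Ω[B⁄k]) (hb : ∀ i, b i = D k B (t i))
    (hx : ∀ i, D k B (x i) = u i • D k B (t i)) (hu : ∀ i, ∃ a b : B, a * x i + b * u i = 1)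
    (M : Ideal B) [hM : M.IsMaximal] (hxM : ∀ i, x i ∈ M) (a : B) (ha : a ∈ M) :
    ∃ f ∉ M, f * a ∈ Ideal.span (Set.range x) := by
  set I := Ideal.span (Set.range x) with hI
  have hIM : I ≤ M := by
    rw [hI, Ideal.span_le]
    rintro _ ⟨i, rfl⟩
    exact hxM i
  -- `B / I` is unramified over `k`
  have hD : ∀ i, D k (B ⧸ I) (algebraMap B (B ⧸ I) (t i)) = 0 := by
    intro i
    obtain ⟨c, e, he⟩ := hu i
    have h1 : algebraMap B (B ⧸ I) (x i) = 0 := Ideal.Quotient.eq_zero_iff_mem.2 (Ideal.subset_span ⟨i, rfl⟩)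
    have h2 := congrArg (KaehlerDifferential.map k k B (B ⧸ I)) (hx i)
    rw [map_D, map_smul, map_D, h1, map_zero] at h2
    have h3 : algebraMap B (B ⧸ I) e * algebraMap B (B ⧸ I) (u i) = 1 := by
      have h4 := congrArg (algebraMap B (B ⧸ I)) he
      rwa [map_add, map_mul, map_mul, h1, mul_zero, zero_add, map_one] at h4
    have h4 : algebraMap B (B ⧸ I) (u i) • D k (B ⧸ I) (algebraMap B (B ⧸ I) (t i)) = 0 := by
      rw [algebraMap_smul]; exact h2.symm
    have h5 := congrArg (fun z => algebraMap B (B ⧸ I) e • z) h4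
    simp only [smul_smul, h3, one_smul, smul_zero] at h5
    exact h5
  have hunr : Algebra.FormallyUnramified k (B ⧸ I) := by
    constructor
    refine subsingleton_of_forall_eq 0 fun ω => ?_
    obtain ⟨ω₀, rfl⟩ := KaehlerDifferential.map_surjective_of_surjective k k B (B ⧸ I)
      (Ideal.Quotient.mk_surjective (I := I)) ω
    rw [← b.sum_repr ω₀, map_sum]
    refine Finset.sum_eq_zero fun i _ => ?_
    rw [map_smul, hb, map_D, hD, smul_zero]
  have hfin : Module.Finite k (B ⧸ I) := Algebra.FormallyUnramified.finite_of_free k (B ⧸ I)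
  have hred : IsReduced (B ⧸ I) := Algebra.FormallyUnramified.isReduced_of_field k (B ⧸ I)
  have hart : IsArtinianRing (B ⧸ I) := IsArtinianRing.of_finite k (B ⧸ I)
  -- the maximal ideal of `B / I`
  set M' : Ideal (B ⧸ I) := M.map (Ideal.Quotient.mk I) with hM'
  have hcomap : M'.comap (Ideal.Quotient.mk I) = M := by
    rw [hM', Ideal.comap_map_of_surjective _ Ideal.Quotient.mk_surjective]
    refine le_antisymm (sup_le le_rfl ?_) le_sup_left
    intro y hy
    refine hIM (Ideal.Quotient.eq_zero_iff_mem.1 ?_)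
    simpa using hy
  have hM'max : M'.IsMaximal := by
    refine (Ideal.map_eq_top_or_isMaximal_of_surjective _ Ideal.Quotient.mk_surjective hM).resolve_left fun h => ?_
    have h1 := hcomap
    rw [hM', h, Ideal.comap_top] at h1
    exact hM.ne_top h1.symm
  have hprime : M'.IsPrime := hM'max.isPrime
  have hred2 : IsReduced (Localization.AtPrime M') :=
    isReduced_localizationPreserves M'.primeCompl (Localization.AtPrime M') hred
  have hart2 : IsArtinianRing (Localization.AtPrime M') := inferInstance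
  have hfield : IsField (Localization.AtPrime M') := IsArtinianRing.isField_of_isReduced_of_isLocalRing _
  have h1 : algebraMap (B ⧸ I) (Localization.AtPrime M') (Ideal.Quotient.mk I a) = 0 := by
    have h2 : algebraMap (B ⧸ I) (Localization.AtPrime M') (Ideal.Quotient.mk I a) ∈
        IsLocalRing.maximalIdeal (Localization.AtPrime M') := by
      rw [IsLocalRing.mem_maximalIdeal, mem_nonunits_iff,
        IsLocalization.AtPrime.isUnit_to_map_iff (Localization.AtPrime M') M']
      intro h3
      exact h3 (Ideal.mem_map_of_mem _ ha)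
    rwa [IsLocalRing.isField_iff_maximalIdeal_eq.1 hfield] at h2
  obtain ⟨⟨s, hs⟩, hsa⟩ := (IsLocalization.map_eq_zero_iff M'.primeCompl (Localization.AtPrime M') _).1 h1
  obtain ⟨f, rfl⟩ := Ideal.Quotient.mk_surjective s
  refine ⟨f, fun hf => hs (Ideal.mem_map_of_mem _ hf), ?_⟩
  rw [← Ideal.Quotient.eq_zero_iff_mem, map_mul]
  exact hsa

theorem exists_main (t : Fin m → B) (b : Module.Basis (Fin m) B Ω[B⁄k]) (hb : ∀ i, b i = D k B (t i))
    (M : Ideal B) [hM : M.IsMaximal] :
    ∃ (x u : Fin m → B) (f : B), (∀ i, x i ∈ M) ∧ (∀ i, D k B (x i) = u i • D k B (t i)) ∧ f ∉ M ∧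
      (∀ i, u i ∣ f) ∧ ∀ a ∈ M, f * a ∈ Ideal.span (Set.range x) := by
  classical
  obtain ⟨x, u, hxM, hx, hu⟩ := exists_x k t M
  have hN : IsNoetherianRing B := Algebra.FiniteType.isNoetherianRing k B
  obtain ⟨S, hS⟩ := (isNoetherianRing_iff_ideal_fg B).1 hN M
  choose! g hg hga using fun (a : B) (ha : a ∈ M) => exists_mul_mem k t x u b hb hx hu M hxM a ha
  have hSM : ∀ a ∈ S, a ∈ M := fun a ha => by
    rw [← hS]; exact Ideal.subset_span ha
  have huM : ∀ i, u i ∉ M := by
    intro i hi
    obtain ⟨c, e, he⟩ := hu i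
    refine hM.ne_top ((Ideal.eq_top_iff_one M).2 ?_)
    rw [← he]
    exact M.add_mem (M.mul_mem_left _ (hxM i)) (M.mul_mem_left _ hi)
  refine ⟨x, u, (∏ a ∈ S, g a) * ∏ i, u i, hxM, hx, ?_, fun i => ?_, fun a ha => ?_⟩
  · intro h
    rcases hM.isPrime.mem_or_mem h with h1 | h1
    · obtain ⟨a, ha, h2⟩ := (hM.isPrime.prod_mem_iff).1 h1
      exact hg a (hSM a ha) h2
    · obtain ⟨i, -, h2⟩ := (hM.isPrime.prod_mem_iff).1 h1
      exact huM i h2
  · exact (Finset.dvd_prod_of_mem u (Finset.mem_univ i)).mul_left _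
  · have h1 : ∀ a ∈ M, (∏ a ∈ S, g a) * a ∈ Ideal.span (Set.range x) := by
      intro a ha
      rw [← hS] at ha
      induction ha using Submodule.span_induction with
      | mem a ha =>
        obtain ⟨c, hc⟩ := Finset.dvd_prod_of_mem g ha
        rw [hc, mul_right_comm]
        exact Ideal.mul_mem_right _ _ (hga a (hSM a ha))
      | zero => rw [mul_zero]; exact Ideal.zero_mem _
      | add a b _ _ ha hb => rw [mul_add]; exact Ideal.add_mem _ ha hb
      | smul c a _ ha => rw [smul_eq_mul, mul_left_comm]; exact Ideal.mul_mem_left _ _ ha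
    rw [mul_right_comm]
    exact Ideal.mul_mem_right _ _ (h1 a ha)

end K434.FrameAlg
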