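import Groth.Agent.EtCoh.K434.FrameAlg
import Groth.Agent.EtCoh.K611.Charts

/-!
# A frame whose coordinates generate the maximal ideal of a closed point

`exists_frame_at`: `X` smooth of relative dimension `m` over a finite field, `P` a closed point; there are an affine
open `U ∋ P` and coordinates `x` on `U` (differentials a basis, monomials a `p`-basis) generating the prime ideal of `P`.
-/

set_option autoImplicit false
universe u
open CategoryTheory CategoryTheory.Limits AlgebraicGeometry Opposite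

noncomputable section

namespace K434.FrameAt

open KaehlerDifferential K611.Frame K611.Charts

theorem mem_basicOpen_iff {X : Scheme.{u}} {V : X.Opens} (hV : IsAffineOpen V) (x : X) (hx : x ∈ V)
    (t : Γ(X, V)) : x ∈ X.basicOpen t ↔ t ∉ (hV.primeIdealOf ⟨x, hx⟩).asIdeal := by
  rw [← PrimeSpectrum.mem_basicOpen, ← hV.fromSpec_preimage_basicOpen]
  change _ ↔ hV.fromSpec (hV.primeIdealOf ⟨x, hx⟩) ∈ X.basicOpen t
  rw [hV.fromSpec_primeIdealOf]

/-- The frame on a localization. -/
theorem exists_fr (p : ℕ) [hp : Fact p.Prime] (k : Type u) [Field k] [CharP k p] [PerfectRing k p]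
    {B C : Type u} [CommRing B] [CommRing C] [Algebra k B] [Algebra.Smooth k B] [Algebra B C] {m : ℕ}
    (t x u : Fin m → B) (b : Module.Basis (Fin m) B Ω[B⁄k]) (hb : ∀ i, b i = D k B (t i))
    (hx : ∀ i, D k B (x i) = u i • D k B (t i)) (f : B) (hu : ∀ i, u i ∣ f) [IsLocalization.Away f C]
    [Nontrivial C] :
    ∃ F : Fr C (Fin m), (∀ i, F.x i = algebraMap B C (x i)) ∧
      K675.PBasis.IsPB p (fun e : Fin m → Fin p => ∏ i, F.x i ^ (e i : ℕ)) := by
  let _ : Algebra k C := ((algebraMap B C).comp (algebraMap k B)).toAlgebra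
  have : IsScalarTower k B C := IsScalarTower.of_algebraMap_eq fun _ => rfl
  have hsm : Algebra.Smooth B C := Algebra.Smooth.of_isLocalization_Away f
  have hsm' : Algebra.Smooth k C := Algebra.Smooth.comp k B C
  have het : Algebra.FormallyEtale B C := Algebra.FormallyEtale.of_isLocalization (Submonoid.powers f)
  have hchar : CharP C p := charP_of_injective_ringHom (algebraMap k C).injective p
  have huC : ∀ i, IsUnit (algebraMap B C (u i)) := by
    intro i
    obtain ⟨v, hv⟩ := hu i
    have h1 : IsUnit (algebraMap B C f) := IsLocalization.Away.algebraMap_isUnit f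
    rw [hv, map_mul] at h1
    exact isUnit_of_mul_isUnit_left h1
  let b' : Module.Basis (Fin m) C Ω[C⁄k] :=
    ((b.baseChange C).map (tensorKaehlerEquivOfFormallyEtale k B C)).isUnitSMul huC
  have hb' : ∀ i, b' i = D k C (algebraMap B C (x i)) := by
    intro i
    have h1 := congrArg (KaehlerDifferential.map k k B C) (hx i)
    rw [map_D, map_smul, map_D] at h1
    rw [h1]
    simp only [b', Module.Basis.isUnitSMul_apply, Module.Basis.map_apply, Module.Basis.baseChange_apply, hb,
      tensorKaehlerEquivOfFormallyEtale_apply, mapBaseChange_tmul, one_smul, map_D, algebraMap_smul]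
  refine ⟨⟨fun i => algebraMap B C (x i), b'.map (omegaEquiv p k C).symm, fun i => ?_⟩, fun i => rfl, ?_⟩
  · rw [Module.Basis.map_apply, hb', omegaEquiv_symm_D]
  · exact K675.EtalePB.isPB_of_smooth p k C (fun i => algebraMap B C (x i)) b' hb'

theorem exists_frame_at (p : ℕ) [Fact p.Prime] (k : Type u) [Field k] [Finite k] [CharP k p]
    (X : Scheme.{u}) (f : X ⟶ Spec (.of k)) (m : ℕ) [SmoothOfRelativeDimension m f]
    (P : X) (hP : IsClosed ({P} : Set X)) :
    ∃ (U : X.Opens) (hU : IsAffineOpen U) (hPU : P ∈ U) (F : K611.Frame.Fr Γ(X, U) (Fin m)),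
      Ideal.span (Set.range F.x) = (hU.primeIdealOf ⟨P, hPU⟩).asIdeal ∧
      K675.PBasis.IsPB p (fun e : Fin m → Fin p => ∏ i, F.x i ^ (e i : ℕ)) := by
  classical
  have hperf : PerfectRing k p := inferInstance
  have h0 : SmoothOfRelativeDimension m f := inferInstance
  obtain ⟨W, hW, V, hV, hPV, e, hs⟩ := h0.exists_isStandardSmoothOfRelativeDimension P
  have hWtop : W = ⊤ := by
    ext z
    simp only [TopologicalSpace.Opens.coe_top, Set.mem_univ, iff_true]
    have : f P ∈ W := e hPV
    rwa [Subsingleton.elim z (f P)]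
  subst hWtop
  let e1 : k ≃+* Γ(Spec (CommRingCat.of k), ⊤) := (Scheme.ΓSpecIso (CommRingCat.of k)).symm.commRingCatIsoToRingEquiv
  let φ : k →+* Γ(X, V) := (f.appLE ⊤ V e).hom.comp (e1 : k →+* Γ(Spec (CommRingCat.of k), ⊤))
  have h2 : φ.IsStandardSmoothOfRelativeDimension (m + 0) :=
    hs.comp (RingHom.IsStandardSmoothOfRelativeDimension.equiv e1)
  rw [add_zero] at h2
  let _ : Algebra k Γ(X, V) := φ.toAlgebra
  have h' : Algebra.IsStandardSmoothOfRelativeDimension m k Γ(X, V) := h2
  obtain ⟨ι, σ, hσ, hι, Q, hQ⟩ := h'.out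
  have := Fintype.ofFinite ι
  have := Fintype.ofFinite σ
  have hne : Nonempty (V : X.Opens) := ⟨⟨P, hPV⟩⟩
  have hnt : Nontrivial Γ(X, V) := inferInstance
  have hcard : Fintype.card ((Set.range Q.map)ᶜ : Set ι) = m := by
    rw [Fintype.card_compl_set, ← hQ, Algebra.Presentation.dimension, Nat.card_eq_fintype_card,
      Nat.card_eq_fintype_card, Set.card_range_of_injective Q.map_inj]
  let ee : ((Set.range Q.map)ᶜ : Set ι) ≃ Fin m := Fintype.equivFinOfCardEq hcard
  have hsm : Algebra.IsStandardSmooth k Γ(X, V) :=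
    Algebra.IsStandardSmoothOfRelativeDimension.isStandardSmooth m
  have hsmooth : Algebra.Smooth k Γ(X, V) := inferInstance
  have hft : Algebra.FiniteType k Γ(X, V) := inferInstance
  let b := Q.basisKaehler.reindex ee
  let t : Fin m → Γ(X, V) := fun i => Q.val (ee.symm i)
  have hb : ∀ i, b i = D k Γ(X, V) (t i) := fun i => by simp [b, t]
  let M : Ideal Γ(X, V) := (hV.primeIdealOf ⟨P, hPV⟩).asIdeal
  have hM : M.IsMaximal := hV.primeIdealOf_isMaximal_of_isClosed ⟨P, hPV⟩ hP
  obtain ⟨x, u, g, hxM, hx, hgM, hu, hg⟩ := FrameAlg.exists_main k t b hb M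
  have hPU : P ∈ X.basicOpen g := (mem_basicOpen_iff hV P hPV g).2 hgM
  have hU : IsAffineOpen (X.basicOpen g) := hV.basicOpen g
  have hloc : IsLocalization.Away g Γ(X, X.basicOpen g) := hV.isLocalization_basicOpen g
  have hne' : Nonempty (X.basicOpen g : X.Opens) := ⟨⟨P, hPU⟩⟩
  have hnt' : Nontrivial Γ(X, X.basicOpen g) := inferInstance
  obtain ⟨F, hF, hPB⟩ := exists_fr p k (C := Γ(X, X.basicOpen g)) t x u b hb hx g hu
  refine ⟨X.basicOpen g, hU, hPU, F, ?_, hPB⟩
  set p' := (hU.primeIdealOf ⟨P, hPU⟩).asIdeal with hp'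
  have hcomap : p'.comap (algebraMap Γ(X, V) Γ(X, X.basicOpen g)) = M := by
    ext a
    rw [Ideal.mem_comap]
    have h1 := mem_basicOpen_iff hU P hPU (algebraMap Γ(X, V) Γ(X, X.basicOpen g) a)
    have h3 := mem_basicOpen_iff hV P hPV a
    have h4 : X.basicOpen (algebraMap Γ(X, V) Γ(X, X.basicOpen g) a) = X.basicOpen g ⊓ X.basicOpen a :=
      X.basicOpen_res a (homOfLE (X.basicOpen_le g)).op
    rw [h4] at h1
    have h5 : P ∈ X.basicOpen g ⊓ X.basicOpen a ↔ P ∈ X.basicOpen a := ⟨fun h => h.2, fun h => ⟨hPU, h⟩⟩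
    rw [h5] at h1
    exact not_iff_not.1 (h1.symm.trans h3)
  have hmap : p' = M.map (algebraMap Γ(X, V) Γ(X, X.basicOpen g)) := by
    rw [← hcomap]
    exact (IsLocalization.map_under (Submonoid.powers g) _ p').symm
  rw [hmap]
  apply le_antisymm
  · rw [Ideal.span_le]
    rintro _ ⟨i, rfl⟩
    rw [hF]
    exact Ideal.mem_map_of_mem _ (hxM i)
  · rw [Ideal.map_le_iff_le_comap]
    intro a ha
    rw [Ideal.mem_comap]
    have h1 : algebraMap Γ(X, V) Γ(X, X.basicOpen g) (g * a) ∈ Ideal.span (Set.range F.x) := by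
      have h3 := Ideal.mem_map_of_mem (algebraMap Γ(X, V) Γ(X, X.basicOpen g)) (hg a ha)
      rw [Ideal.map_span, ← Set.range_comp] at h3
      have h4 : (algebraMap Γ(X, V) Γ(X, X.basicOpen g)) ∘ x = F.x := by
        funext i; exact (hF i).symm
      rwa [h4] at h3
    rw [map_mul] at h1
    exact (Ideal.unit_mul_mem_iff_mem _ (IsLocalization.Away.algebraMap_isUnit g)).1 h1

end K434.FrameAt
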